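import Groth.Agent.H02CA.RegularQuotient
import Groth.Agent.H05EGA4.NagataJac
import Groth.Agent.H06QR.Regular
import Groth.Agent.H4LC.Depth
import Groth.Agent.H4Depth.LocDepth
import Groth.Agent.H4Depth.Regular
import Mathlib.RingTheory.LocalProperties.Submodule

/-!
Powers of a prime with regular quotient in a regular ring are primary; depth at an ideal of height two.
-/

set_option autoImplicit false

universe u

open IsLocalRing CategoryTheory

namespace Groth.Agent.H02CA.DiagLC

variable {R : Type u} [CommRing R] [IsRegularRing R]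

theorem mem_pow_succ_of_mul_mem (Q : Ideal R) [Q.IsPrime] [IsRegularRing (R ⧸ Q)] {s x : R} (hs : s ∉ Q)
    (r : ℕ) (hx : x ∈ Q ^ r) (hsx : s * x ∈ Q ^ (r + 1)) : x ∈ Q ^ (r + 1) := by
  refine Ideal.mem_of_localization_maximal fun P hP => ?_
  haveI := hP
  haveI : IsRegularLocalRing (Localization.AtPrime P) := isRegularRing_iff.mp inferInstance P
  by_cases hQP : Q ≤ P
  · haveI : (P.map (Ideal.Quotient.mk Q)).IsPrime :=
      Ideal.map_isPrime_of_surjective Ideal.Quotient.mk_surjective (by rwa [Ideal.mk_ker])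
    haveI : IsRegularLocalRing (Localization.AtPrime (P.map (Ideal.Quotient.mk Q))) :=
      isRegularRing_iff.mp inferInstance _
    obtain ⟨c, f, hf, hspan, hind⟩ := H05EGA4.NagataJac.exists_generators (q := Q) (P := P) hQP
    let A := Localization.AtPrime P
    let ι := algebraMap R A
    have hdisj : Disjoint (P.primeCompl : Set R) Q := Set.disjoint_left.2 fun z hz hzq => hz (hQP hzq)
    have hJp := IsLocalization.isPrime_of_isPrime_disjoint P.primeCompl A Q ‹_› hdisj
    have hJc := IsLocalization.under_map_of_isPrime_disjoint P.primeCompl A (I := Q) ‹_› hdisj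
    have hfm : ∀ i, ι (f i) ∈ maximalIdeal A := fun i =>
      (IsLocalization.AtPrime.to_map_mem_maximal_iff _ P _).2 (hQP (hf i))
    have hreg := (regular_quotient_of_independent (fun i => ι (f i)) hfm fun a ha j => by
      rw [Fintype.linearIndependent_iff] at hind
      refine (residue_eq_zero_iff _).1 (hind (fun i => residue A (a i)) ?_ j)
      have h0 : (maximalIdeal A).toCotangent (∑ i, a i • (⟨ι (f i), hfm i⟩ : maximalIdeal A)) = 0 := by
        rw [Ideal.toCotangent_eq_zero]
        simpa [Submodule.coe_sum] using ha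
      rw [← h0, map_sum]
      exact Finset.sum_congr rfl fun i _ => by rw [map_smul]; rfl).2
    have hqr := H06QR.Regular.isQuasiRegular_of_isWeaklyRegular (fun i => ι (f i)) hreg.toIsWeaklyRegular
    rw [Ideal.map_pow, hspan]
    have hx' := Ideal.mem_map_of_mem ι hx
    rw [Ideal.map_pow, hspan] at hx'
    obtain ⟨F, hF, hFx⟩ := H06QR.exists_homogeneous (fun i => ι (f i)) hx'
    have hsx' := Ideal.mem_map_of_mem ι hsx
    rw [Ideal.map_pow, hspan, map_mul, ← hFx, ← MvPolynomial.eval_C (f := fun i => ι (f i)) (ι s),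
      ← map_mul] at hsx'
    have hc : ∀ d, F.coeff d ∈ Ideal.span (Set.range fun i => ι (f i)) := fun d => by
      have h1 := hqr r _ (hF.C_mul (ι s)) hsx' d
      rw [MvPolynomial.coeff_C_mul] at h1
      refine (Ideal.IsPrime.mem_or_mem (hspan ▸ hJp) h1).resolve_left fun h2 => hs ?_
      rw [← hJc, Ideal.mem_comap, hspan]
      exact h2
    have h2 := H06QR.Regular.eval_mem_mul (fun i => ι (f i)) hF hc
    rwa [← pow_succ', hFx] at h2
  · obtain ⟨z, hzQ, hzP⟩ := SetLike.not_le_iff_exists.1 hQP
    have h : Q.map (algebraMap R (Localization.AtPrime P)) = ⊤ := Ideal.eq_top_of_isUnit_mem _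
      (Ideal.mem_map_of_mem _ hzQ) (IsLocalization.map_units _ (⟨z, hzP⟩ : P.primeCompl))
    rw [Ideal.map_pow, h, Ideal.top_pow]
    exact Submodule.mem_top

/-- Powers of a prime with regular quotient are primary. -/
theorem mem_pow_of_mul_mem (Q : Ideal R) [Q.IsPrime] [IsRegularRing (R ⧸ Q)] {s x : R} (hs : s ∉ Q)
    (l : ℕ) (h : s * x ∈ Q ^ l) : x ∈ Q ^ l := by
  suffices H : ∀ r ≤ l, x ∈ Q ^ r from H l le_rfl
  intro r hr
  induction r with
  | zero => simp
  | succ r ih => exact mem_pow_succ_of_mul_mem Q hs r (ih (Nat.le_of_succ_le hr)) (Ideal.pow_le_pow_right hr h)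

theorem two_le_idealDepth [IsNoetherianRing R] (I : Ideal R)
    (h : ∀ P : Ideal R, P.IsPrime → I ≤ P → 2 ≤ P.height) : 2 ≤ LocCoh.idealDepth I R := by
  rw [H4Depth.idealDepth_eq_iInf_depth_localization]
  refine le_iInf₂ fun p hp => ?_
  let A := Localization.AtPrime p.asIdeal
  haveI : IsRegularLocalRing A := isRegularRing_iff.mp inferInstance p.asIdeal
  have e : LocalizedModule p.asIdeal.primeCompl R ≃ₗ[A] A :=
    LinearEquiv.extendScalarsOfIsLocalization p.asIdeal.primeCompl A
      (IsLocalizedModule.iso p.asIdeal.primeCompl (Algebra.linearMap R A))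
  have h1 := H4Depth.depth_self_eq_ringKrullDim_of_regular A
  rw [IsLocalization.AtPrime.ringKrullDim_eq_height p.asIdeal A] at h1
  have h2 : LocCoh.depth A (LocalizedModule p.asIdeal.primeCompl R) = LocCoh.depth A A :=
    H4Depth.depth_congr e
  rw [h2, WithBot.coe_inj.mp h1]
  exact h p.asIdeal p.isPrime hp

omit [IsRegularRing R] in
/-- An ideal in the kernel of a map to a module gives torsion. -/
theorem isZero_localCohomology_zero_one [IsNoetherianRing R] (I : Ideal R) (M : Ideal R)
    (hR : 2 ≤ LocCoh.idealDepth I R)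
    (hM : ∀ x : R, ∀ n : ℕ, (∀ a ∈ I ^ n, a * x ∈ M) → x ∈ M) :
    Limits.IsZero ((localCohomology I 0).obj (ModuleCat.of R M)) ∧
      Limits.IsZero ((localCohomology I 1).obj (ModuleCat.of R M)) := by
  have h0R : Subsingleton (LocCoh.H I 0 R) :=
    H4LC.subsingleton_H_of_lt_idealDepth I R (lt_of_lt_of_le (by norm_num) hR)
  have h1R : Subsingleton (LocCoh.H I 1 R) :=
    H4LC.subsingleton_H_of_lt_idealDepth I R (lt_of_lt_of_le (by norm_num) hR)
  have hf : Function.Injective (Submodule.subtype M) := Subtype.val_injective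
  have hg : Function.Surjective (Submodule.mkQ M) := Submodule.mkQ_surjective M
  have hfg : Function.Exact (Submodule.subtype M) (Submodule.mkQ M) := LinearMap.exact_subtype_mkQ M
  have h0M : Subsingleton (LocCoh.H I 0 M) := (H4LC.Hmap_zero_injective I hf hg hfg).subsingleton
  have h0Q : Subsingleton (LocCoh.H I 0 (R ⧸ M)) := by
    have : Subsingleton (DRing.torsionSub I (R ⧸ M)) := by
      refine subsingleton_of_forall_eq 0 fun x => Subtype.ext ?_
      obtain ⟨n, hn⟩ := x.2
      obtain ⟨y, hy⟩ := Submodule.Quotient.mk_surjective M (x : R ⧸ M)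
      rw [Submodule.coe_zero, ← hy, Submodule.Quotient.mk_eq_zero]
      refine hM y n fun a ha => ?_
      have := hn a ha
      rwa [← hy, ← Submodule.Quotient.mk_smul, Submodule.Quotient.mk_eq_zero, smul_eq_mul] at this
    exact (H4LC.zeroEquiv I (R ⧸ M)).injective.subsingleton
  have h1M : Subsingleton (LocCoh.H I 1 M) := H4LC.subsingleton_H_left I hf hg hfg 0 h0Q h1R
  exact ⟨@ModuleCat.isZero_of_subsingleton _ _ _ h0M, @ModuleCat.isZero_of_subsingleton _ _ _ h1M⟩

end Groth.Agent.H02CA.DiagLC
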