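import Groth.Agent.H19Grp.AlgClosedGeom
import Mathlib.RingTheory.PiTensorProduct
import Mathlib.RingTheory.Smooth.Basic
import Mathlib.RingTheory.TensorProduct.Basic

/-!
Tensor powers of an algebra over a field: smooth domains; quotient by the ideal of a diagonal.
-/

set_option autoImplicit false

universe u v

open TensorProduct

namespace Groth.Agent.H02CA.DiagLC

variable {k : Type u} [Field k] {A : Type v} [CommRing A] [Algebra k A]

/-- The factor maps. -/
noncomputable def inc {ι : Type*} [DecidableEq ι] (i : ι) : A →ₐ[k] ⨂[k] _ : ι, A :=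
  PiTensorProduct.singleAlgHom (R := k) (A := fun _ : ι => A) i

/-- Algebra maps out of a tensor power from maps on the factors. -/
noncomputable def piLift {ι : Type*} [Fintype ι] {S : Type*} [CommRing S] [Algebra k S]
    (f : ι → A →ₐ[k] S) : (⨂[k] _ : ι, A) →ₐ[k] S :=
  PiTensorProduct.liftAlgHom
    ((MultilinearMap.mkPiAlgebra k ι S).compLinearMap fun i => (f i).toLinearMap)
    (by simp) (fun x y => by simp [Finset.prod_mul_distrib])

theorem piLift_inc {ι : Type*} [Fintype ι] [DecidableEq ι] {S : Type*} [CommRing S] [Algebra k S]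
    (f : ι → A →ₐ[k] S) (i : ι) (a : A) : piLift f (inc i a) = f i a := by
  simp only [piLift, inc, PiTensorProduct.singleAlgHom_apply, PiTensorProduct.liftAlgHom_apply,
    PiTensorProduct.lift.tprod, MultilinearMap.compLinearMap_apply, MultilinearMap.mkPiAlgebra_apply,
    AlgHom.toLinearMap_apply, MonoidHom.mulSingle_apply]
  rw [Finset.prod_eq_single i]
  · simp
  · intro j _ hj; simp [Pi.mulSingle_eq_of_ne hj]
  · simp

theorem hom_ext {ι : Type*} [Finite ι] [DecidableEq ι] {S : Type*} [CommRing S] [Algebra k S]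
    (f g : (⨂[k] _ : ι, A) →ₐ[k] S) (h : ∀ i a, f (inc i a) = g (inc i a)) : f = g :=
  PiTensorProduct.algHom_ext fun i => AlgHom.ext (h i)

/-- Reindexing. -/
noncomputable def reindexEquiv {ι ι' : Type*} [Fintype ι] [DecidableEq ι] [Fintype ι'] [DecidableEq ι']
    (e : ι ≃ ι') : (⨂[k] _ : ι, A) ≃ₐ[k] ⨂[k] _ : ι', A :=
  AlgEquiv.ofAlgHom (piLift fun i => inc (e i)) (piLift fun i => inc (e.symm i))
    (hom_ext _ _ fun i a => by simp only [AlgHom.comp_apply, piLift_inc, AlgHom.id_apply, e.apply_symm_apply])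
    (hom_ext _ _ fun i a => by simp only [AlgHom.comp_apply, piLift_inc, AlgHom.id_apply, e.symm_apply_apply])

/-- Splitting off the first factor. -/
noncomputable def consEquiv (m : ℕ) :
    (⨂[k] _ : Fin (m + 1), A) ≃ₐ[k] A ⊗[k] (⨂[k] _ : Fin m, A) :=
  AlgEquiv.ofAlgHom
    (piLift (Fin.cons Algebra.TensorProduct.includeLeft
      fun i => Algebra.TensorProduct.includeRight.comp (inc i)))
    (Algebra.TensorProduct.lift (inc 0) (piLift fun i => inc i.succ) fun _ _ => Commute.all _ _)
    (Algebra.TensorProduct.ext (AlgHom.ext fun a => by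
        simp [piLift_inc]) (hom_ext _ _ fun i a => by simp [piLift_inc]))
    (hom_ext _ _ fun i a => by
      refine Fin.cases ?_ (fun j => ?_) i <;> simp [piLift_inc])

theorem fin_zero_equiv : Nonempty ((⨂[k] _ : Fin 0, A) ≃ₐ[k] k) :=
  ⟨AlgEquiv.ofAlgHom (piLift fun i => i.elim0) (Algebra.ofId k _) (AlgHom.ext fun r => by simp)
    (hom_ext _ _ fun i => i.elim0)⟩

theorem smooth_fin [Algebra.Smooth k A] : ∀ m, Algebra.Smooth k (⨂[k] _ : Fin m, A)
  | 0 => Algebra.Smooth.of_equiv (fin_zero_equiv (k := k) (A := A)).some.symm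
  | m + 1 => by
    haveI := smooth_fin m
    haveI : Algebra.Smooth k (A ⊗[k] (⨂[k] _ : Fin m, A)) := Algebra.Smooth.comp k A _
    exact Algebra.Smooth.of_equiv (consEquiv m).symm

theorem isDomain_fin [IsAlgClosed k] [IsDomain A] : ∀ m, IsDomain (⨂[k] _ : Fin m, A)
  | 0 => (fin_zero_equiv (k := k) (A := A)).some.toRingEquiv.toMulEquiv.isDomain
  | m + 1 => by
    haveI := isDomain_fin m
    haveI := H19Grp.isDomain_tensorProduct (k := k) A (⨂[k] _ : Fin m, A)
    exact (consEquiv m).toRingEquiv.toMulEquiv.isDomain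

variable {ι : Type*} [Fintype ι] [DecidableEq ι]

theorem smooth [Algebra.Smooth k A] : Algebra.Smooth k (⨂[k] _ : ι, A) := by
  haveI := smooth_fin (k := k) (A := A) (Fintype.card ι)
  exact Algebra.Smooth.of_equiv (reindexEquiv (Fintype.equivFin ι)).symm

theorem isDomain [IsAlgClosed k] [IsDomain A] : IsDomain (⨂[k] _ : ι, A) := by
  haveI := isDomain_fin (k := k) (A := A) (Fintype.card ι)
  exact (reindexEquiv (k := k) (A := A) (Fintype.equivFin ι)).toRingEquiv.toMulEquiv.isDomain

/-- The ideal of the diagonal of the factors `i` and `j`. -/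
def diag (i j : ι) : Ideal (⨂[k] _ : ι, A) :=
  Ideal.span (Set.range fun a : A => inc i a - inc j a)

variable (i j : ι) (hij : i ≠ j)

/-- Where the factor `x` goes. -/
def fold (x : ι) : {x : ι // x ≠ j} := if h : x = j then ⟨i, hij⟩ else ⟨x, h⟩

/-- The collapse of the factor `j` onto the factor `i`. -/
noncomputable def collapse : (⨂[k] _ : ι, A) →ₐ[k] ⨂[k] _ : {x : ι // x ≠ j}, A :=
  piLift fun x => inc (fold i j hij x)

theorem collapse_inc (x : ι) (a : A) :
    collapse (k := k) (A := A) i j hij (inc x a) = inc (fold i j hij x) a :=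
  piLift_inc _ _ _

theorem fold_left : fold i j hij i = ⟨i, hij⟩ := dif_neg hij

theorem fold_right : fold i j hij j = ⟨i, hij⟩ := dif_pos rfl

theorem diag_le_ker : diag i j ≤ RingHom.ker (collapse (k := k) (A := A) i j hij) := by
  refine Ideal.span_le.2 ?_
  rintro _ ⟨a, rfl⟩
  simp only [SetLike.mem_coe, RingHom.mem_ker, map_sub, collapse_inc, fold_left, fold_right, sub_self]

/-- The quotient by the ideal of a diagonal is a smaller tensor power. -/
noncomputable def quotEquiv :
    ((⨂[k] _ : ι, A) ⧸ diag (k := k) (A := A) i j) ≃ₐ[k] ⨂[k] _ : {x : ι // x ≠ j}, A :=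
  AlgEquiv.ofAlgHom
    (Ideal.Quotient.liftₐ (diag (k := k) (A := A) i j) (collapse (k := k) (A := A) i j hij)
      fun _ ha => diag_le_ker i j hij ha)
    (piLift fun x => (Ideal.Quotient.mkₐ k (diag (k := k) (A := A) i j)).comp (inc x.1))
    (hom_ext _ _ fun x a => by
      simp only [AlgHom.comp_apply, piLift_inc, AlgHom.id_apply, Ideal.Quotient.mkₐ_eq_mk,
        Ideal.Quotient.liftₐ_apply, Ideal.Quotient.lift_mk, RingHom.coe_coe, collapse_inc]
      simp [fold, x.2])
    (Ideal.Quotient.algHom_ext _ (hom_ext _ _ fun x a => by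
      simp only [AlgHom.comp_apply, AlgHom.id_apply, Ideal.Quotient.mkₐ_eq_mk,
        Ideal.Quotient.liftₐ_apply, Ideal.Quotient.lift_mk, RingHom.coe_coe, collapse_inc, piLift_inc]
      by_cases hx : x = j
      · subst hx
        rw [fold_right]
        exact Ideal.Quotient.eq.2 (Ideal.subset_span ⟨a, rfl⟩)
      · simp [fold, hx]))

include hij in
theorem isPrime_diag [IsAlgClosed k] [IsDomain A] : (diag (k := k) (A := A) i j).IsPrime := by
  haveI := isDomain (k := k) (A := A) (ι := {x : ι // x ≠ j})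
  haveI := (quotEquiv (k := k) (A := A) i j hij).toRingEquiv.toMulEquiv.isDomain
  exact (Ideal.Quotient.isDomain_iff_prime _).1 this

include hij in
theorem smooth_quot [Algebra.Smooth k A] :
    Algebra.Smooth k ((⨂[k] _ : ι, A) ⧸ diag (k := k) (A := A) i j) := by
  haveI := smooth (k := k) (A := A) (ι := {x : ι // x ≠ j})
  exact Algebra.Smooth.of_equiv (quotEquiv (k := k) (A := A) i j hij).symm

omit [DecidableEq ι] in
/-- Different factors are told apart by an element outside the scalars. -/
theorem inc_sub_ne_zero [DecidableEq ι] (a : A) (φ : A →ₗ[k] k) (hφ1 : φ 1 = 0) (hφa : φ a = 1)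
    (ψ : A →ₗ[k] k) (hψ1 : ψ 1 = 1) {r s : ι} (hrs : r ≠ s) : inc (k := k) r a - inc s a ≠ 0 := by
  intro h
  let L : (⨂[k] _ : ι, A) →ₗ[k] k := PiTensorProduct.lift
    ((MultilinearMap.mkPiAlgebra k ι k).compLinearMap fun x => if x = r then φ else ψ)
  have hr : L (inc r a) = 1 := by
    simp only [L, inc, PiTensorProduct.singleAlgHom_apply, PiTensorProduct.lift.tprod,
      MultilinearMap.compLinearMap_apply, MultilinearMap.mkPiAlgebra_apply, MonoidHom.mulSingle_apply]
    refine Finset.prod_eq_one fun x _ => ?_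
    by_cases hx : x = r
    · subst hx; simp [hφa]
    · simp [Pi.mulSingle_eq_of_ne hx, hx, hψ1]
  have hs : L (inc s a) = 0 := by
    simp only [L, inc, PiTensorProduct.singleAlgHom_apply, PiTensorProduct.lift.tprod,
      MultilinearMap.compLinearMap_apply, MultilinearMap.mkPiAlgebra_apply, MonoidHom.mulSingle_apply]
    refine Finset.prod_eq_zero (Finset.mem_univ r) ?_
    simp [Pi.mulSingle_eq_of_ne hrs, hφ1]
  have := congrArg L h
  rw [map_sub, map_zero, hr, hs, sub_zero] at this
  exact one_ne_zero this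

end Groth.Agent.H02CA.DiagLC
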